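import Groth.Agent.Ega41.NoethNorm
import Groth.Agent.CalgB.PowField

/-!
# Finiteness over a power series ring given by a system of parameters

`A` a complete Noetherian local `k`-algebra with residue field finite over `k`, `x_1, …, x_n ∈ m`
generating an `m`-primary ideal: then `A` is finite over `k[[T_1, …, T_n]]`, `T_i ↦ x_i`.
-/

set_option autoImplicit false

universe u

namespace Groth.Agent.Ega4late.H543.PowFinite

open IsLocalRing

variable {k A : Type u} [Field k] [CommRing A] [IsLocalRing A] [IsNoetherianRing A]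
  [IsAdicComplete (maximalIdeal A) A] [Algebra k A]

/-- Finiteness of `A` over the power series ring. -/
theorem finite_powEval [Module.Finite k (ResidueField A)] {n : ℕ} (x : Fin n → A)
    (hx : ∀ i, x i ∈ maximalIdeal A)
    (hrad : maximalIdeal A ≤ (Ideal.span (Set.range x)).radical) :
    (Ega41.PowEval.powEval (R := k) (maximalIdeal A) x hx).toRingHom.Finite := by
  set J : Ideal A := Ideal.span (Set.range x) with hJ
  have hJm : J ≤ maximalIdeal A := by
    rw [hJ, Ideal.span_le]; rintro _ ⟨i, rfl⟩; exact hx i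
  let w : MvPowerSeries (Fin n) k →ₐ[k] A := Ega41.PowEval.powEval (maximalIdeal A) x hx
  let : Algebra (MvPowerSeries (Fin n) k) A := w.toRingHom.toAlgebra
  have hwalg : ∀ f, algebraMap (MvPowerSeries (Fin n) k) A f = w f := fun f ↦ rfl
  have : IsScalarTower k (MvPowerSeries (Fin n) k) A := IsScalarTower.of_algebraMap_eq fun r ↦ by
    rw [hwalg, w.commutes]
  set IS : Ideal (MvPowerSeries (Fin n) k) := Ideal.span (Set.range MvPowerSeries.X) with hIS
  have hScomp : IsAdicComplete IS (MvPowerSeries (Fin n) k) :=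
    Ega41.PowComplete.isAdicComplete_span_X _ _
  have hmap : IS.map (algebraMap (MvPowerSeries (Fin n) k) A) = J := by
    rw [hIS, Ideal.map_span, ← Set.range_comp, hJ]
    congr 1
    ext a
    simp only [Set.mem_range, Function.comp_apply, hwalg, w, Ega41.PowEval.powEval_X]
  have hJtop : J ≠ ⊤ := fun h ↦ (maximalIdeal.isMaximal A).ne_top (top_le_iff.mp (h ▸ hJm))
  have hhaus : IsHausdorff IS A := by
    rw [← IsHausdorff.map_algebraMap_iff (S := A), hmap]
    exact IsHausdorff.of_isLocalRing J A hJtop
  -- `A ⧸ J` is finite over `k`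
  have : Nontrivial (A ⧸ J) := Ideal.Quotient.nontrivial_iff.mpr hJtop
  have : IsLocalRing (A ⧸ J) :=
    IsLocalRing.of_surjective' (Ideal.Quotient.mk J) Ideal.Quotient.mk_surjective
  have hmin : maximalIdeal A ∈ J.minimalPrimes := by
    refine ⟨⟨(maximalIdeal.isMaximal A).isPrime, hJm⟩, fun Q hQ _ => ?_⟩
    rw [Ideal.radical_eq_sInf] at hrad
    exact hrad.trans (sInf_le ⟨hQ.2, hQ.1⟩)
  have hart : IsArtinianRing (A ⧸ J) := quotient_artinian_of_mem_minimalPrimes_of_isLocalRing J hmin
  have hloc : IsLocalHom (Ideal.Quotient.mk J) := IsLocalHom.of_surjective _ Ideal.Quotient.mk_surjective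
  have hfin0 : Module.Finite k (ResidueField (A ⧸ J)) := by
    let φ : ResidueField A →ₐ[k] ResidueField (A ⧸ J) :=
      { ResidueField.map (Ideal.Quotient.mk J) with
        commutes' := fun r ↦ rfl }
    have hφ : Function.Surjective φ := by
      intro y
      obtain ⟨b, rfl⟩ := residue_surjective y
      obtain ⟨a, rfl⟩ := Ideal.Quotient.mk_surjective b
      exact ⟨residue A a, rfl⟩
    exact Module.Finite.of_surjective φ.toLinearMap hφ
  have hfin1 : Module.Finite k (A ⧸ J) := Ega41.NoethNorm.finite_of_isArtinianRing hfin0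
  have hfin : Module.Finite (MvPowerSeries (Fin n) k)
      (A ⧸ (IS • ⊤ : Submodule (MvPowerSeries (Fin n) k) A)) := by
    have e : (IS • ⊤ : Submodule (MvPowerSeries (Fin n) k) A) =
        J.restrictScalars (MvPowerSeries (Fin n) k) := by
      rw [Ideal.smul_top_eq_map, hmap]
    rw [e]
    have : Module.Finite (MvPowerSeries (Fin n) k) (A ⧸ J) :=
      Module.Finite.of_restrictScalars_finite k _ _
    exact Module.Finite.equiv
      (Submodule.Quotient.restrictScalarsEquiv (MvPowerSeries (Fin n) k) J).symm
  exact Ega41.PowComplete.finite_of_complete IS hfin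

omit [IsNoetherianRing A] in
/-- The evaluation map at elements of the maximal ideal is local. -/
theorem isLocalHom_powEval {n : ℕ} (x : Fin n → A) (hx : ∀ i, x i ∈ maximalIdeal A) :
    IsLocalHom (Ega41.PowEval.powEval (R := k) (maximalIdeal A) x hx).toRingHom := by
  refine ((IsLocalRing.local_hom_TFAE
    (Ega41.PowEval.powEval (R := k) (maximalIdeal A) x hx).toRingHom).out 0 2).mpr ?_
  rw [CalgB.PowField.maximalIdeal_eq, Ideal.map_span, Ideal.span_le]
  rintro _ ⟨_, ⟨i, rfl⟩, rfl⟩
  change Ega41.PowEval.powEval (R := k) (maximalIdeal A) x hx (MvPowerSeries.X i) ∈ maximalIdeal A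
  rw [Ega41.PowEval.powEval_X]
  exact hx i

end Groth.Agent.Ega4late.H543.PowFinite
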